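import Cfsg.Agent.Lib.PG.Gen

set_option autoImplicit false
set_option maxRecDepth 100000
set_option Elab.async false
set_option exponentiation.threshold 100000

namespace Cfsg.Agent.Golay.H1598
open Cfsg.Agent.PG

noncomputable def n0 : Net :=
 (.cons 32 0x20000000
 (.cons 16 0x20000000d822
 (.cons 8 0x20009000d0
 (.cons 4 0x206090602
 (.cons 2 0x130112110
 (.cons 1 0x54040104
 (.cons 2 0x20001
 (.cons 4 0x6040000
 (.cons 8 0x20000000d0
 (.cons 16 0x20000000d820
 (.cons 32 0x20000000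
 .nil)))))))))))

noncomputable def n1 : Net :=
 (.cons 32 0xb0000000
 (.cons 16 0x200400001024
 (.cons 8 0x40020001000c9
 (.cons 4 0x400000200040007
 (.cons 2 0x1000000202030200
 (.cons 1 0x4000000101114444
 (.cons 2 0x200220
 (.cons 4 0x400000200090a00
 (.cons 8 0x4002000000080
 (.cons 16 0x200400001042
 (.cons 32 0xb0000000
 .nil)))))))))))

noncomputable def n2 : Net :=
 (.cons 32 0xb0000000
 (.cons 16 0xb00000000042
 (.cons 8 0xb000000055
 (.cons 4 0xd0006010a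
 (.cons 2 0x2000323112
 (.cons 1 0x4001505444
 (.cons 2 0x2000000022
 (.cons 4 0x400080402
 (.cons 8 0xb0000000a0
 (.cons 16 0xb00000000026
 (.cons 32 0xb0000000
 .nil)))))))))))

noncomputable def n3 : Net :=
 (.cons 16 0x2
 (.cons 8 0x58
 (.cons 4 0x2010a
 (.cons 2 0x210
 (.cons 1 0x504144
 (.cons 2 0x1221
 (.cons 4 0x80002
 (.cons 8 0xc1
 (.cons 16 0x2
 .nil)))))))))

noncomputable def n4 : Net :=
 (.cons 16 0x1e0
 (.cons 8 0x10010
 (.cons 4 0x9080a
 (.cons 2 0x20212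
 (.cons 1 0x414410
 (.cons 2 0x101200
 (.cons 4 0xa0a
 (.cons 8 0x10090
 (.cons 16 0x1e0
 .nil)))))))))

noncomputable def A : List Net := [n0, n1, n2, n3, n4]

theorem hA : okA (2 ^ 6) A = true := by decide +kernel

theorem hlen : A.length = 5 := rfl

def tr3 : List ℕ := [1, 0x108, 0x109]

def ce3 : List (List (ℕ × ℕ)) := [[(1, 1)],
  [(2, 1)],
  [(0, 1)]]

noncomputable def cl3_l : List Claim := plainClaims 4 tr3 ce3

def tr2 : List ℕ := [1, 0x106, 0x107]

def ce2 : List (List (ℕ × ℕ)) := [[(1, 1), (0, 0x109)],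
  [(2, 1), (1, 0x109)],
  [(0, 1), (2, 0x109)]]

noncomputable def cl2_l : List Claim := plainClaims 3 tr2 ce2

def tr1 : List ℕ := [1, 0x102, 0x103, 0x104, 0x10204, 0x10304]

def ce1 : List (List (ℕ × ℕ)) := [[(1, 1), (3, 1), (0, 0x107), (0, 0x109)],
  [(2, 1), (4, 1), (1, 0x107), (1, 0x10906)],
  [(0, 1), (5, 1), (2, 0x107), (2, 0x10907)],
  [(5, 0x107), (0, 0x106), (3, 0x107), (3, 0x10807)],
  [(3, 0x107), (1, 0x106), (4, 0x107), (4, 0x10806)],
  [(4, 0x107), (2, 0x106), (5, 0x107), (5, 0x108)]]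

noncomputable def cl1_l : List Claim := plainClaims 1 tr1 ce1

def cj0 : List ℕ := [0x10906, 0x109]

def reps0 : List Rep := [⟨1, [(0x102, 0x102), (0x104, 0x104), (0x106, 0x106), (0x108, 0x108)],
   [(1, 1, 1, 1)], 3⟩,
  ⟨0x100, [],
   [(1, 1, 0, 0x10907),
    (0x103, 0x103, 1, 0x10904),
    (0x102, 0x104, 1, 0x10702),
    (0x105, 0x102, 1, 0x103),
    (0x10503, 1, 2, 1),
    (0x10502, 0x10304, 1, 0x109060304)], 1⟩,
  ⟨0x100020400, [(0x102, 0x10903), (0x105, 0x109070304)],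
   [(1, 0x10204, 1, 0x109)], 3⟩]

noncomputable def cl0_l : List Claim := dcClaims 0 3 cj0 reps0

theorem cl3_0 : chk A 6 (cl3_l) = true := by decide +kernel

theorem ok3 : plainOK A 4 5 1 tr3 ce3 = true := by decide +kernel

theorem orb3 : orbCardB A 3 4 1 3 3 = true := by decide +kernel

theorem cl2_0 : chk A 6 (cl2_l) = true := by decide +kernel

theorem ok2 : plainOK A 3 4 0 tr2 ce2 = true := by decide +kernel

theorem orb2 : orbCardB A 3 3 0 3 3 = true := by decide +kernel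

theorem cl1_0 : chk A 6 (cl1_l) = true := by decide +kernel

theorem ok1 : plainOK A 1 3 28 tr1 ce1 = true := by decide +kernel

theorem orb1 : orbCardB A 3 1 28 3 6 = true := by decide +kernel

theorem cl0_0 : chk A 6 (cl0_l) = true := by decide +kernel

theorem ok0 : dcOK A 0 3 30 28 3 cj0 reps0 = true := by decide +kernel

theorem orb0 : orbCardB A 3 0 30 4 8 = true := by decide +kernel

theorem card4 : Nat.card (K A 5) = 1 := card_K_last A (le_of_eq hlen)

theorem cl3 : ∀ c ∈ cl3_l, Holds A c :=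
  (chk_spec hA cl3_0)

theorem stab3 : StabIs A 4 1 5 := stabIs_plain hA ok3 cl3

theorem card3 : Nat.card (K A 4) = 3 := card_K_step hA stab3 orb3 card4

theorem cl2 : ∀ c ∈ cl2_l, Holds A c :=
  (chk_spec hA cl2_0)

theorem stab2 : StabIs A 3 0 4 := stabIs_plain hA ok2 cl2

theorem card2 : Nat.card (K A 3) = 9 := card_K_step hA stab2 orb2 card3

theorem cl1 : ∀ c ∈ cl1_l, Holds A c :=
  (chk_spec hA cl1_0)

theorem stab1 : StabIs A 1 28 3 := stabIs_plain hA ok1 cl1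

theorem card1 : Nat.card (K A 1) = 54 := card_K_step hA stab1 orb1 card2

theorem cl0 : ∀ c ∈ cl0_l, Holds A c :=
  (chk_spec hA cl0_0)

theorem stab0 : StabIs A 0 30 1 := stabIs_dc hA stab1 ok0 cl0

theorem card0 : Nat.card (K A 0) = 432 := card_K_step hA stab0 orb0 card1

theorem fixTriv0 {B : Set ℕ} (h0 : 30 ∈ B) (h1 : 28 ∈ B) (h2 : 0 ∈ B) (h3 : 1 ∈ B) : FixTriv (K A 0) B :=
  fixTriv_step stab0 h0 <| fixTriv_step stab1 h1 <| fixTriv_step stab2 h2 <| fixTriv_step stab3 h3 <| fixTriv_last A (le_of_eq hlen) B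

theorem fixTriv1 {B : Set ℕ} (h1 : 28 ∈ B) (h2 : 0 ∈ B) (h3 : 1 ∈ B) : FixTriv (K A 1) B :=
  fixTriv_step stab1 h1 <| fixTriv_step stab2 h2 <| fixTriv_step stab3 h3 <| fixTriv_last A (le_of_eq hlen) B

theorem fixTriv2 {B : Set ℕ} (h2 : 0 ∈ B) (h3 : 1 ∈ B) : FixTriv (K A 3) B :=
  fixTriv_step stab2 h2 <| fixTriv_step stab3 h3 <| fixTriv_last A (le_of_eq hlen) B

theorem fixTriv3 {B : Set ℕ} (h3 : 1 ∈ B) : FixTriv (K A 4) B :=
  fixTriv_step stab3 h3 <| fixTriv_last A (le_of_eq hlen) B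


end Cfsg.Agent.Golay.H1598
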